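import Groth.Prelude.Def_W4c5nonratstablectREq
import Groth.Agent.REqP1.Chart
import Mathlib.Algebra.MvPolynomial.Funext
import Mathlib.RingTheory.Polynomial.Basic

/-!
# Direct R-links along the affine line
-/

set_option autoImplicit false
set_option backward.isDefEq.respectTransparency false

universe u

open CategoryTheory CategoryTheory.Limits AlgebraicGeometry

noncomputable section

namespace Groth.Agent.REqLine

variable {k : Type u} [Field k] {K : Type u} [Field K] [Algebra k K]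

/-- The affine line over `K` inside the projective line over `K`. -/
theorem exists_lineEmb (K : Type u) [Field K] :
    ∃ j : Spec (CommRingCat.of (Polynomial K)) ⟶ REq.P1K K, IsOpenImmersion j ∧
      j ≫ REq.P1K.toSpec K = Spec.map (CommRingCat.ofHom Polynomial.C) := by
  letI : Algebra P1.R0.{u} K := ((Int.castRingHom K).comp ULift.ringEquiv.toRingHom).toAlgebra
  let e : CommRingCat.of (REqP1.ChartOver K) ⟶ CommRingCat.of (Polynomial K) :=
    CommRingCat.ofHom (REqP1.chartOverEquiv K).toRingHom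
  haveI : IsIso e := (ConcreteCategory.isIso_iff_bijective e).2 (REqP1.chartOverEquiv K).bijective
  refine ⟨Spec.map e ≫ REqP1.chartOver K 0, inferInstance, ?_⟩
  rw [Category.assoc]
  show Spec.map e ≫ REqP1.chartOver K 0 ≫ CohB1.ProjSpaceOver.toBase 1 _ = _
  rw [REqP1.chartOver_toBase, ← Spec.map_comp]
  refine congrArg Spec.map (CommRingCat.hom_ext (RingHom.ext fun a => ?_))
  simp only [e, CommRingCat.hom_comp, CommRingCat.hom_ofHom, RingHom.comp_apply]
  simp [REqP1.chartOverEquiv, Polynomial.smul_eq_C_mul]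

/-- Evaluation at `c` as a map of spectra. -/
abbrev evPt (c : K) : Spec (CommRingCat.of K) ⟶ Spec (CommRingCat.of (Polynomial K)) :=
  Spec.map (CommRingCat.ofHom (Polynomial.evalRingHom c))

/-- Two points joined by an affine line in `Y` are directly linked in an open subscheme containing them. -/
theorem elemLink_of_line {Y : Scheme.{u}} (g : Y ⟶ Spec (CommRingCat.of k)) (V : Y.Opens)
    (L : Spec (CommRingCat.of (Polynomial K)) ⟶ Y)
    (hL : L ≫ g = Spec.map (CommRingCat.ofHom Polynomial.C) ≫ REq.specMap k K)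
    (A B : REq.Pts (V.ι ≫ g) K) (hA : evPt 0 ≫ L = A.1 ≫ V.ι) (hB : evPt 1 ≫ L = B.1 ≫ V.ι) :
    REq.ElemLink (V.ι ≫ g) K A B := by
  obtain ⟨j, hj, hjb⟩ := exists_lineEmb K
  let W := L ⁻¹ᵁ V
  let h0 : (W : Scheme.{u}) ⟶ (V : Scheme.{u}) := L ∣_ V
  have key : ∀ (c : K) (P : REq.Pts (V.ι ≫ g) K), evPt c ≫ L = P.1 ≫ V.ι →
      ∃ a : Spec (CommRingCat.of K) ⟶ ((j ''ᵁ W : (REq.P1K K).Opens) : Scheme.{u}),
        a ≫ (j ''ᵁ W).ι ≫ REq.P1K.toSpec K = 𝟙 _ ∧ a ≫ (j.isoImage W).inv ≫ h0 = P.1 := by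
    intro c P hP
    let t : Spec (CommRingCat.of K) ⟶ (W : Scheme.{u}) :=
      (isPullback_morphismRestrict L V).lift P.1 (evPt c) hP.symm
    have ht : t ≫ h0 = P.1 := (isPullback_morphismRestrict L V).lift_fst _ _ _
    have ht' : t ≫ W.ι = evPt c := (isPullback_morphismRestrict L V).lift_snd _ _ _
    refine ⟨t ≫ (j.isoImage W).hom, ?_, by simpa using ht⟩
    simp only [Category.assoc, Scheme.Hom.isoImage_hom_ι_assoc]
    rw [← Category.assoc, ht', hjb, evPt, ← Spec.map_comp, ← CommRingCat.ofHom_comp]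
    rw [show (Polynomial.evalRingHom c).comp Polynomial.C = RingHom.id K from
      RingHom.ext fun a => by simp, CommRingCat.ofHom_id, Spec.map_id]
  obtain ⟨a, ha, ha'⟩ := key 0 A hA
  obtain ⟨b, hb, hb'⟩ := key 1 B hB
  refine ⟨j ''ᵁ W, (j.isoImage W).inv ≫ h0, a, b, ?_, ha, hb, ha', hb'⟩
  rw [← cancel_epi (j.isoImage W).hom]
  simp only [Iso.hom_inv_id_assoc, Scheme.Hom.isoImage_hom_ι_assoc, Category.assoc]
  rw [← Category.assoc h0 V.ι g, morphismRestrict_ι, Category.assoc, hL, reassoc_of% hjb]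

/-- Two points of an open subscheme of an affine space are directly linked. -/
theorem elemLink_affineSpace {n : ℕ} (V : (Spec (CommRingCat.of (MvPolynomial (Fin n) k))).Opens)
    (A B : REq.Pts (V.ι ≫ Spec.map (CommRingCat.ofHom (algebraMap k (MvPolynomial (Fin n) k)))) K) :
    REq.ElemLink (V.ι ≫ Spec.map (CommRingCat.ofHom (algebraMap k (MvPolynomial (Fin n) k)))) K A B := by
  have split : ∀ P : REq.Pts (V.ι ≫ Spec.map (CommRingCat.ofHom (algebraMap k (MvPolynomial (Fin n) k)))) K,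
      ∃ a : Fin n → K, P.1 ≫ V.ι = Spec.map (CommRingCat.ofHom (MvPolynomial.eval₂Hom (algebraMap k K) a)) := by
    intro P
    obtain ⟨φ, hφ⟩ := Spec.map_surjective (P.1 ≫ V.ι)
    have hx : Spec.map φ ≫ Spec.map (CommRingCat.ofHom (algebraMap k (MvPolynomial (Fin n) k))) =
        REq.specMap k K := by rw [hφ, Category.assoc]; exact P.2
    rw [REq.specMap, ← Spec.map_comp] at hx
    have hx' : ∀ c, φ.hom (algebraMap k (MvPolynomial (Fin n) k) c) = algebraMap k K c := fun c =>
      DFunLike.congr_fun (congrArg CommRingCat.Hom.hom (Spec.map_injective hx)) c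
    refine ⟨fun i => φ.hom (MvPolynomial.X i), hφ.symm.trans (congrArg Spec.map (CommRingCat.hom_ext ?_))⟩
    refine MvPolynomial.ringHom_ext (fun c => ?_) (fun i => ?_)
    · simp only [CommRingCat.hom_ofHom, MvPolynomial.eval₂Hom_C]
      exact hx' c
    · simp
  obtain ⟨a, ha⟩ := split A
  obtain ⟨b, hb⟩ := split B
  let ψ : MvPolynomial (Fin n) k →+* Polynomial K :=
    MvPolynomial.eval₂Hom (Polynomial.C.comp (algebraMap k K))
      (fun i => Polynomial.C (a i) + Polynomial.X * Polynomial.C (b i - a i))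
  have hev : ∀ c : K, (Polynomial.evalRingHom c).comp ψ =
      MvPolynomial.eval₂Hom (algebraMap k K) (fun i => a i + c * (b i - a i)) := fun c =>
    MvPolynomial.ringHom_ext (fun r => by simp [ψ]) (fun i => by simp [ψ])
  refine elemLink_of_line _ V (Spec.map (CommRingCat.ofHom ψ)) ?_ A B ?_ ?_
  · rw [REq.specMap, ← Spec.map_comp, ← Spec.map_comp, ← CommRingCat.ofHom_comp, ← CommRingCat.ofHom_comp]
    refine congrArg Spec.map (CommRingCat.hom_ext (RingHom.ext fun r => ?_))
    simp [ψ, MvPolynomial.algebraMap_eq, ← MvPolynomial.single_eq_monomial]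
  · rw [ha, evPt, ← Spec.map_comp, ← CommRingCat.ofHom_comp, hev]
    simp
  · rw [hb, evPt, ← Spec.map_comp, ← CommRingCat.ofHom_comp, hev]
    simp

/-- Push a direct link along a morphism. -/
theorem elemLink_map {X Y : Scheme.{u}} {f : X ⟶ Spec (CommRingCat.of k)} {g : Y ⟶ Spec (CommRingCat.of k)}
    (m : X ⟶ Y) (hm : m ≫ g = f) {A B : REq.Pts f K} (A' B' : REq.Pts g K) (hA : A.1 ≫ m = A'.1)
    (hB : B.1 ≫ m = B'.1) (h : REq.ElemLink f K A B) : REq.ElemLink g K A' B' := by
  obtain ⟨U, l, a, b, h1, h2, h3, h4, h5⟩ := h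
  exact ⟨U, l ≫ m, a, b, by rw [Category.assoc, hm, h1], h2, h3, by rw [reassoc_of% h4, hA],
    by rw [reassoc_of% h5, hB]⟩

/-- Over an infinite field a non-empty open of affine space has a rational point. -/
theorem exists_rat_point [Infinite k] {n : ℕ} (V : (Spec (CommRingCat.of (MvPolynomial (Fin n) k))).Opens)
    (hV : (V : Set (Spec (CommRingCat.of (MvPolynomial (Fin n) k)))).Nonempty) :
    ∃ p : Spec (CommRingCat.of k) ⟶ (V : Scheme.{u}),
      p ≫ V.ι ≫ Spec.map (CommRingCat.ofHom (algebraMap k (MvPolynomial (Fin n) k))) = 𝟙 _ := by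
  obtain ⟨x, hx⟩ := hV
  obtain ⟨_, ⟨g, rfl⟩, hxg, hgV⟩ :=
    PrimeSpectrum.isTopologicalBasis_basic_opens.exists_subset_of_mem_open hx V.isOpen
  have hg : g ≠ 0 := fun h => by simp [h] at hxg
  obtain ⟨c, hc⟩ : ∃ c : Fin n → k, MvPolynomial.eval c g ≠ 0 := by
    by_contra! hall
    exact hg (MvPolynomial.funext fun c => by simp [hall c])
  let q : Spec (CommRingCat.of k) ⟶ Spec (CommRingCat.of (MvPolynomial (Fin n) k)) :=
    Spec.map (CommRingCat.ofHom (MvPolynomial.eval c))
  have hq : Set.range q ⊆ (V : Set (Spec (CommRingCat.of (MvPolynomial (Fin n) k)))) := by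
    rintro _ ⟨z, rfl⟩
    refine hgV ?_
    show MvPolynomial.eval c g ∉ z.asIdeal
    exact fun h => z.2.ne_top (Ideal.eq_top_of_isUnit_mem _ h (isUnit_iff_ne_zero.2 hc))
  have hr : Set.range q ⊆ Set.range V.ι := by rwa [Scheme.Opens.range_ι]
  refine ⟨IsOpenImmersion.lift V.ι q hr, ?_⟩
  rw [IsOpenImmersion.lift_fac_assoc, ← Spec.map_comp, ← CommRingCat.ofHom_comp,
    show (MvPolynomial.eval c).comp (algebraMap k (MvPolynomial (Fin n) k)) = RingHom.id k from
      RingHom.ext fun r => by simp, CommRingCat.ofHom_id, Spec.map_id]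

/-- A retract of an open of affine space: any two points of it are directly linked. -/
theorem elemLink_retract {X : Scheme.{u}} (f : X ⟶ Spec (CommRingCat.of k)) {n : ℕ}
    (V : (Spec (CommRingCat.of (MvPolynomial (Fin n) k))).Opens) (a : X ⟶ (V : Scheme.{u}))
    (b : (V : Scheme.{u}) ⟶ X) (hab : a ≫ b = 𝟙 X)
    (ha : a ≫ V.ι ≫ Spec.map (CommRingCat.ofHom (algebraMap k (MvPolynomial (Fin n) k))) = f)
    (hb : b ≫ f = V.ι ≫ Spec.map (CommRingCat.ofHom (algebraMap k (MvPolynomial (Fin n) k))))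
    (A B : REq.Pts f K) : REq.ElemLink f K A B :=
  elemLink_map b hb (A := ⟨A.1 ≫ a, by rw [Category.assoc, ha]; exact A.2⟩)
    (B := ⟨B.1 ≫ a, by rw [Category.assoc, ha]; exact B.2⟩) A B (by simp [hab]) (by simp [hab])
    (elemLink_affineSpace V _ _)

end Groth.Agent.REqLine
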