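import Groth.Agent.REqLine.Basic
import Groth.Agent.GrassPlucker.Morphism

/-!
# Lines in projective space
-/

set_option autoImplicit false
set_option backward.isDefEq.respectTransparency false

universe u

open CategoryTheory CategoryTheory.Limits AlgebraicGeometry MvPolynomial HomogeneousLocalization

noncomputable section

namespace Groth.Agent.REqLine

open GrassPlucker

variable {m : ℕ} {B C : Type u} [CommRing B] [CommRing C]

/-- The point of `P^m_ℤ` given by a tuple at which the linear form `f` is invertible. -/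
def ptf (p : Fin (m + 1) → B) {f : Poly.{u} m} (hf : f ∈ Gr.{u} m 1) (h : IsUnit (ev p f)) :
    Spec (CommRingCat.of B) ⟶ Proj (Gr.{u} m) :=
  Spec.map (CommRingCat.ofHom (locPt p h)) ≫ Proj.awayι (Gr.{u} m) f hf one_pos

theorem ptf_comp (φ : B →+* C) (p : Fin (m + 1) → B) {f : Poly.{u} m} (hf : f ∈ Gr.{u} m 1) (h : IsUnit (ev p f))
    (h' : IsUnit (ev (fun t => φ (p t)) f)) :
    Spec.map (CommRingCat.ofHom φ) ≫ ptf p hf h = ptf (fun t => φ (p t)) hf h' := by
  rw [ptf, ptf, ← Category.assoc, ← Spec.map_comp, ← CommRingCat.ofHom_comp, locPt_comp φ p h h']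

theorem ptf_eq_pt (p : Fin (m + 1) → B) (i : Fin (m + 1)) (hi : IsUnit (p i)) {f : Poly.{u} m}
    (hf : f ∈ Gr.{u} m 1) (h : IsUnit (ev p f)) : ptf p hf h = pt p i hi := by
  have hfi : IsUnit (ev p (f * X i : Poly.{u} m)) := by rw [map_mul, ev_X]; exact h.mul hi
  have hfi' : IsUnit (ev p (X i * f : Poly.{u} m)) := by rw [mul_comm]; exact hfi
  have e1 : ptf p hf h = Spec.map (CommRingCat.ofHom (locPt p hfi)) ≫
      Proj.awayι (Gr.{u} m) (f * X i) (SetLike.mul_mem_graded hf (GrassPlucker.X_mem i)) (by norm_num) := by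
    rw [ptf, ← locPt_awayMap p (GrassPlucker.X_mem i) rfl h hfi, CommRingCat.ofHom_comp, Spec.map_comp,
      Category.assoc, Proj.SpecMap_awayMap_awayι]
  have e2 : pt p i hi = Spec.map (CommRingCat.ofHom (locPt p hfi)) ≫
      Proj.awayι (Gr.{u} m) (f * X i) (SetLike.mul_mem_graded hf (GrassPlucker.X_mem i)) (by norm_num) := by
    rw [pt, ← locPt_awayMap p hf (mul_comm f (X i)) (by rwa [ev_X]) hfi, CommRingCat.ofHom_comp,
      Spec.map_comp, Category.assoc, Proj.SpecMap_awayMap_awayι]
  rw [e1, e2]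

/-- The coordinate ratios in a standard chart. -/
theorem locPt_ratios (i : Fin (m + 1)) :
    ∃ (q : Fin (m + 1) → Away (Gr.{u} m) (X i)) (hq : q i = 1) (h : IsUnit (ev q (X i : Poly.{u} m))),
      locPt q h = RingHom.id _ := by
  let q : Fin (m + 1) → Away (Gr.{u} m) (X i) := fun j =>
    Away.mk (Gr.{u} m) (GrassPlucker.X_mem i) 1 (X j) (GrassPlucker.X_mem j)
  have hqi : q i = 1 := by
    refine HomogeneousLocalization.val_injective _ ?_
    rw [Away.val_mk, HomogeneousLocalization.val_one, ← Localization.mk_one]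
    refine Localization.mk_eq_mk_iff.2 (Localization.r_of_eq ?_)
    simp
  refine ⟨q, hqi, by rw [ev_X, hqi]; exact isUnit_one, RingHom.ext fun z => ?_⟩
  obtain ⟨n, a, ha, rfl⟩ := Away.mk_surjective (Gr.{u} m) (GrassPlucker.X_mem i) z
  have e := locPt_mk q (GrassPlucker.X_mem i) (by rw [ev_X, hqi]; exact isUnit_one) n a ha
  have hxi : ev q (X i : Poly.{u} m) = 1 := by rw [ev_X, hqi]
  rw [show ∀ y, y * ev q (X i : Poly.{u} m) ^ n = y from fun y => by rw [hxi]; exact (congrArg _ (one_pow n)).trans (mul_one y)] at e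
  rw [e, RingHom.id_apply]
  refine HomogeneousLocalization.val_injective _ ?_
  let v : Away (Gr.{u} m) (X i) →+* Localization.Away (X i : Poly.{u} m) := algebraMap _ _
  let al : Poly.{u} m →+* Localization.Away (X i : Poly.{u} m) := algebraMap _ _
  let w : Localization.Away (X i : Poly.{u} m) := IsLocalization.Away.invSelf (X i : Poly.{u} m)
  have hw : al (X i) * w = 1 := IsLocalization.Away.mul_invSelf _
  have hmk : ∀ (k : ℕ) (b : Poly.{u} m) (hb : b ∈ Gr.{u} m (k • 1)),
      v (Away.mk (Gr.{u} m) (GrassPlucker.X_mem i) k b hb) = w ^ k * al b := by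
    intro k b hb
    show (Away.mk (Gr.{u} m) (GrassPlucker.X_mem i) k b hb).val = _
    rw [Away.val_mk, Localization.mk_eq_mk', IsLocalization.mk'_eq_iff_eq_mul]
    show al b = w ^ k * al b * al (X i ^ k)
    rw [map_pow, mul_comm (w ^ k), mul_assoc, ← mul_pow, mul_comm w, hw, one_pow, mul_one]
  show v (ev q a) = v (Away.mk (Gr.{u} m) (GrassPlucker.X_mem i) n a ha)
  rw [hmk, ev_comp, show (fun j => v (q j)) = fun j => w * al (X j) from funext fun j => by rw [hmk, pow_one],
    ev_smul (by simpa using ha : a ∈ Gr.{u} m n), ← ev_comp]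
  have hid : ev (fun j => (X j : Poly.{u} m)) = RingHom.id (Poly.{u} m) := by
    refine MvPolynomial.ringHom_ext (fun r => ?_) (fun j => ?_)
    · obtain ⟨r⟩ := r
      simp only [ev, eval₂Hom_C, RingHom.id_apply]
      exact RingHom.congr_fun (RingHom.ext_int ((zHom (Poly.{u} m)).comp ULift.ringEquiv.symm.toRingHom)
        ((C : ULift.{u} ℤ →+* Poly.{u} m).comp ULift.ringEquiv.symm.toRingHom)) r
    · simp
  rw [hid]
  rfl

/-- A point over a field is given by a tuple. -/
theorem exists_pt {F : Type u} [Field F] (x : Spec (CommRingCat.of F) ⟶ Proj (Gr.{u} m)) :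
    ∃ (p : Fin (m + 1) → F) (i : Fin (m + 1)) (hi : IsUnit (p i)), pt p i hi = x := by
  let z : ↥(Spec (CommRingCat.of F)) := IsLocalRing.closedPoint F
  obtain ⟨i, hi⟩ : ∃ i, x z ∈ Proj.basicOpen (Gr.{u} m) (X i) :=
    TopologicalSpace.Opens.mem_iSup.1 (by rw [iSup_basicOpen_X (m := m)]; trivial)
  have hr : Set.range x ⊆ Set.range (Proj.awayι (Gr.{u} m) (X i) (GrassPlucker.X_mem i) one_pos) := by
    rintro _ ⟨z', rfl⟩
    rw [show z' = z from Subsingleton.elim _ _, ← Scheme.Hom.coe_opensRange, Proj.opensRange_awayι]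
    exact hi
  obtain ⟨φ, hφ⟩ := Spec.map_surjective (IsOpenImmersion.lift _ x hr)
  obtain ⟨q, hq, h, hid⟩ := locPt_ratios (m := m) i
  refine ⟨fun j => φ.hom (q j), i, by simp [hq], ?_⟩
  have h' : IsUnit (ev (fun j => φ.hom (q j)) (X i : Poly.{u} m)) := by simp [hq]
  rw [pt, ← locPt_comp φ.hom q h h', hid, RingHom.comp_id, CommRingCat.ofHom_hom, hφ]
  exact IsOpenImmersion.lift_fac _ _ _

variable {k : Type u} [Field k] {K : Type u} [Field K] [Algebra k K]

/-- Two points of an open subscheme of projective space are directly linked. -/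
theorem elemLink_projSpace {n : ℕ} (V : (CohB1.ProjSpaceOver n (Spec (CommRingCat.of k))).Opens)
    (A B : REq.Pts (V.ι ≫ CohB1.ProjSpaceOver.toBase n (Spec (CommRingCat.of k))) K) :
    REq.ElemLink (V.ι ≫ CohB1.ProjSpaceOver.toBase n (Spec (CommRingCat.of k))) K A B := by
  obtain ⟨a, i, hi, ha⟩ := exists_pt (m := n) (A.1 ≫ V.ι ≫ pullback.fst _ _)
  obtain ⟨b, j, hj, hb⟩ := exists_pt (m := n) (B.1 ≫ V.ι ≫ pullback.fst _ _)
  have hai : a i ≠ 0 := hi.ne_zero
  have hbj : b j ≠ 0 := hj.ne_zero
  obtain ⟨f, hf, hfa, hfb⟩ : ∃ f : Poly.{u} n, f ∈ Gr.{u} n 1 ∧ ev a f ≠ 0 ∧ ev b f ≠ 0 := by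
    by_cases h1 : a j = 0
    · by_cases h2 : b i = 0
      · refine ⟨X i + X j, add_mem (GrassPlucker.X_mem i) (GrassPlucker.X_mem j), ?_, ?_⟩
        · simpa [h1] using hai
        · simpa [h2] using hbj
      · exact ⟨X i, GrassPlucker.X_mem i, by simpa using hai, by simpa using h2⟩
    · exact ⟨X j, GrassPlucker.X_mem j, by simpa using h1, by simpa using hbj⟩
  let a' : Fin (n + 1) → K := fun t => (ev a f)⁻¹ * a t
  let b' : Fin (n + 1) → K := fun t => (ev b f)⁻¹ * b t
  have ha' : ev a' f = 1 := by rw [ev_smul hf, pow_one, inv_mul_cancel₀ hfa]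
  have hb' : ev b' f = 1 := by rw [ev_smul hf, pow_one, inv_mul_cancel₀ hfb]
  have ea : ptf a' hf (by rw [ha']; exact isUnit_one) = pt a i hi := by
    rw [ptf_eq_pt a' i ((IsUnit.mk0 _ (inv_ne_zero hfa)).mul hi) hf,
      pt_smul a i hi (IsUnit.mk0 _ (inv_ne_zero hfa))]
  have eb : ptf b' hf (by rw [hb']; exact isUnit_one) = pt b j hj := by
    rw [ptf_eq_pt b' j ((IsUnit.mk0 _ (inv_ne_zero hfb)).mul hj) hf,
      pt_smul b j hj (IsUnit.mk0 _ (inv_ne_zero hfb))]
  let p : Fin (n + 1) → Polynomial K := fun t => Polynomial.C (a' t) + Polynomial.X * Polynomial.C (b' t - a' t)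
  have hpt : ∀ (c : K) (t : Fin (n + 1)), Polynomial.evalRingHom c (p t) = a' t + c * (b' t - a' t) := fun c t => by
    simp [p]
  have hp : ev p f = 1 := by
    let F : (Fin (n + 1) → Polynomial K) → Polynomial K := fun v => ev v f
    have hlin : ∀ (v w : Fin (n + 1) → Polynomial K) (d : Polynomial K),
        ev (fun t => v t + d * w t) f = ev v f + d * ev w f := by
      intro v w d
      have hcomb : f ∈ Submodule.span (ULift.{u} ℤ) (Set.range (X : Fin (n + 1) → Poly.{u} n)) := by
        rw [← homogeneousSubmodule_one_eq_span_X]; exact hf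
      refine Submodule.span_induction ?_ ?_ ?_ ?_ hcomb
      · rintro _ ⟨t, rfl⟩; simp
      · simp
      · intro x y _ _ hx hy; simp only [map_add, hx, hy]; ring
      · intro r x _ hx
        simp only [MvPolynomial.smul_eq_C_mul, map_mul, hx]
        simp only [ev, eval₂Hom_C]
        ring
    rw [show p = fun t => Polynomial.C (a' t) + Polynomial.X * (Polynomial.C (b' t) - Polynomial.C (a' t)) from
      funext fun t => by simp [p], hlin]
    have hC : ∀ v : Fin (n + 1) → K, ev (fun t => Polynomial.C (v t)) f = Polynomial.C (ev v f) := fun v =>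
      (ev_comp Polynomial.C v f).symm
    have hsub : ev (fun t => Polynomial.C (b' t) - Polynomial.C (a' t)) f =
        ev (fun t => Polynomial.C (b' t)) f - ev (fun t => Polynomial.C (a' t)) f := by
      have := hlin (fun t => Polynomial.C (b' t)) (fun t => Polynomial.C (a' t)) (-1)
      simpa [sub_eq_add_neg] using this
    rw [hsub, hC, hC, ha', hb']
    simp
  let L : Spec (CommRingCat.of (Polynomial K)) ⟶ CohB1.ProjSpaceOver n (Spec (CommRingCat.of k)) :=
    pullback.lift (ptf p hf (by rw [hp]; exact isUnit_one))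
      (Spec.map (CommRingCat.ofHom Polynomial.C) ≫ REq.specMap k K) (specULiftZIsTerminal.hom_ext _ _)
  refine elemLink_of_line _ V L (pullback.lift_snd _ _ _) A B ?_ ?_
  · refine pullback.hom_ext ?_ ?_
    · rw [Category.assoc, Category.assoc, pullback.lift_fst, evPt,
        ptf_comp _ p hf _ (by simp only [hpt]; simpa using (ha' ▸ isUnit_one : IsUnit (ev a' f))), ← ha, ← ea]
      congr 1
      funext t; simp [hpt]
    · rw [Category.assoc, Category.assoc, pullback.lift_snd, ← Category.assoc, evPt, ← Spec.map_comp,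
        ← CommRingCat.ofHom_comp, show (Polynomial.evalRingHom (0 : K)).comp Polynomial.C = RingHom.id K from
          RingHom.ext fun a => by simp, CommRingCat.ofHom_id, Spec.map_id, Category.id_comp]
      exact A.2.symm
  · refine pullback.hom_ext ?_ ?_
    · rw [Category.assoc, Category.assoc, pullback.lift_fst, evPt,
        ptf_comp _ p hf _ (by simp only [hpt]; simpa using (hb' ▸ isUnit_one : IsUnit (ev b' f))), ← hb, ← eb]
      congr 1
      funext t; simp [hpt]
    · rw [Category.assoc, Category.assoc, pullback.lift_snd, ← Category.assoc, evPt, ← Spec.map_comp,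
        ← CommRingCat.ofHom_comp, show (Polynomial.evalRingHom (1 : K)).comp Polynomial.C = RingHom.id K from
          RingHom.ext fun a => by simp, CommRingCat.ofHom_id, Spec.map_id, Category.id_comp]
      exact B.2.symm

end Groth.Agent.REqLine
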